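import Groth.Agent.HopfCartier.Basic
import Groth.Agent.HopfRedSq.Basic
import Groth.Agent.CotT.Smooth
import Groth.Agent.CotT.CI
import Groth.Agent.CotT.RegQuot
import Groth.Agent.Unibranch.Noether

/-!
Dimension and regularity at rational points of affine varieties and affine algebraic groups.
-/
set_option autoImplicit false
universe u
noncomputable section

namespace Groth.Agent.GLinFree

theorem height_polynomial {S : Type u} [CommRing S] [IsNoetherianRing S] [IsJacobsonRing S] {n : ℕ∞}
    (h : ∀ m : Ideal S, m.IsMaximal → m.height = n) (P : Ideal (Polynomial S)) [P.IsMaximal] :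
    P.height = n + 1 := by
  have := h (P.under S) (Polynomial.isMaximal_comap_C_of_isJacobsonRing P)
  rw [Polynomial.height_eq_height_add_one (P.under S) P, this]

theorem height_eq_of_isMaximal {K : Type u} [Field K] (n : ℕ) (M : Ideal (MvPolynomial (Fin n) K)) [M.IsMaximal] :
    M.height = (n : ℕ∞) := by
  induction n with
  | zero =>
    have h0 := Ideal.height_le_ringKrullDim_of_ne_top (I := M) (Ideal.IsMaximal.ne_top ‹_›)
    rw [MvPolynomial.ringKrullDim_of_isNoetherianRing, ringKrullDim_eq_zero_of_field, zero_add, Nat.card_fin] at h0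
    exact le_antisymm (WithBot.coe_le_coe.1 h0) zero_le
  | succ n ih =>
    let e := (MvPolynomial.finSuccEquiv K n).toRingEquiv
    have : (M.map e).IsMaximal := Ideal.map_isMaximal_of_equiv e
    rw [← e.height_map M, height_polynomial (n := (n : ℕ∞)) (fun m _ => ih m) (M.map e), Nat.cast_succ]

/-- All closed points of an affine variety have the full dimension. -/
theorem height_eq_ringKrullDim {K : Type u} [Field K] {R : Type u} [CommRing R] [IsDomain R] [Algebra K R]
    [Algebra.FiniteType K R] (P : Ideal R) [P.IsMaximal] : (P.height : WithBot ℕ∞) = ringKrullDim R := by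
  obtain ⟨s, g, hgi, hgf⟩ := exists_finite_inj_algHom_of_fg K R
  have hdim := Unibranch.ringKrullDim_eq_of_finite_inj g hgi hgf
  let _ := g.toRingHom.toAlgebra
  have : Module.Finite (MvPolynomial (Fin s) K) R := hgf
  have : Algebra.IsIntegral (MvPolynomial (Fin s) K) R := Algebra.IsIntegral.of_finite _ _
  have : FaithfulSMul (MvPolynomial (Fin s) K) R := (faithfulSMul_iff_algebraMap_injective _ _).2 hgi
  have : IsNoetherianRing R := Algebra.FiniteType.isNoetherianRing K R
  have : (P.under (MvPolynomial (Fin s) K)).IsMaximal := Ideal.isMaximal_comap_of_isIntegral_of_isMaximal P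
  refine le_antisymm (Ideal.height_le_ringKrullDim_of_ne_top (Ideal.IsMaximal.ne_top ‹_›)) ?_
  rw [hdim, Ideal.height_eq_height_add_of_liesOver_of_hasGoingDown (P.under (MvPolynomial (Fin s) K)) P,
    height_eq_of_isMaximal]
  rw [WithBot.coe_add]
  exact le_add_of_nonneg_right (WithBot.coe_le_coe.2 zero_le)

variable (k : Type u) [Field k] [IsAlgClosed k] {A : Type u} [CommRing A] [HopfAlgebra k A]
  [Algebra.FiniteType k A]

include k in
/-- An affine algebraic group has the same dimension at all closed points. -/
theorem height_eq_ringKrullDim_hopf (M : Ideal A) [M.IsMaximal] : (M.height : WithBot ℕ∞) = ringKrullDim A := by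
  have : Nontrivial A := Bialgebra.nontrivial k
  rw [← Ideal.sup_isMaximal_height_eq_ringKrullDim]
  refine WithBot.coe_inj.2 (le_antisymm (le_iSup₂ (f := fun (I : Ideal A) (_ : I.IsMaximal) => I.height) M ‹_›) ?_)
  refine iSup₂_le fun M' hM' => le_of_eq ?_
  obtain ⟨e, he⟩ := HopfRedSq.exists_equiv_comap_eq (k := k) M M'
  rw [← e.toRingEquiv.height_map M']
  congr 1
  ext a
  rw [← Ideal.comap_symm]
  show e.symm a ∈ M' ↔ a ∈ M
  simpa using (he (e.symm a)).symm

include k in
/-- An affine algebraic group in characteristic zero is regular. -/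
theorem isRegularLocalRing_hopf [CharZero k] (M : Ideal A) [M.IsMaximal] :
    IsRegularLocalRing (Localization.AtPrime M) := by
  have : Nontrivial A := Bialgebra.nontrivial k
  have : IsReduced A := HopfCartier.isReduced (k := k)
  have : IsJacobsonRing A := isJacobsonRing_of_finiteType (A := k)
  obtain ⟨f, hf, hsm⟩ := HopfRedSq.exists_smooth_away (k := k) (A := A)
  obtain ⟨M', hM', hfM'⟩ : ∃ M' : Ideal A, M'.IsMaximal ∧ f ∉ M' := by
    by_contra h
    push Not at h
    refine hf ?_
    have : f ∈ Ideal.jacobson (⊥ : Ideal A) := Submodule.mem_sInf.2 fun J hJ => h J hJ.2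
    rw [IsJacobsonRing.out inferInstance (I := (⊥ : Ideal A))
      (fun x hx => by
        obtain ⟨n, hn⟩ := hx
        exact IsNilpotent.eq_zero ⟨n, hn⟩)] at this
    exact this
  have : Algebra.FiniteType k (Localization.Away f) := .trans (R := k) (S := A) inferInstance
    (IsLocalization.finiteType_of_monoid_fg (.powers f) _)
  let p := M'.map (algebraMap A (Localization.Away f))
  have hd : Disjoint (Submonoid.powers f : Set A) (M' : Set A) := Set.disjoint_left.2 fun x ⟨n, hn⟩ hxM => by
    subst hn
    exact hfM' (hM'.isPrime.mem_of_pow_mem n hxM)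
  have hp : p.IsPrime := IsLocalization.isPrime_of_isPrime_disjoint (.powers f) _ M' hM'.isPrime hd
  have hpc : p.comap (algebraMap A (Localization.Away f)) = M' :=
    IsLocalization.comap_map_of_isPrime_disjoint (.powers f) _ hM'.isPrime hd
  have := CotT.regular_of_formallySmooth (k := k) p
  have e := IsLocalization.localizationLocalizationAtPrimeIsoLocalization (.powers f) p
  have h1 := IsRegularLocalRing.of_ringEquiv e.toRingEquiv.symm
  obtain ⟨ψ, hψ⟩ := HopfRedSq.exists_equiv_comap_eq (k := k) M M'
  have aux : ∀ (p' : Ideal A) [p'.IsPrime], (∀ a, ψ a ∈ M ↔ a ∈ p') → IsRegularLocalRing (Localization.AtPrime p') →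
      IsRegularLocalRing (Localization.AtPrime M) := by
    intro p' _ h _
    have hM : p'.primeCompl.map ψ.toRingEquiv.toMonoidHom = M.primeCompl := ?_
    · exact IsRegularLocalRing.of_ringEquiv (IsLocalization.ringEquivOfRingEquiv (M := p'.primeCompl)
        (Localization.AtPrime p') (T := M.primeCompl) (Localization.AtPrime M) ψ.toRingEquiv hM)
    ext a
    constructor
    · rintro ⟨b, hb, rfl⟩
      exact fun hb' => hb ((h b).1 hb')
    · exact fun ha => ⟨ψ.symm a, fun hb => ha (by simpa using (h _).2 hb), by simp⟩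
  refine aux _ ?_ h1
  intro a
  rw [hψ a]
  exact (SetLike.ext_iff.1 hpc a).symm

/-- A regular quotient of a regular local ring is defined by `dim R - dim (R/n)` equations. -/
theorem exists_generators_of_regular_quotient {R : Type u} [CommRing R] [IsRegularLocalRing R] (n : Ideal R)
    (hn : n ≠ ⊤) [IsRegularRing (R ⧸ n)] :
    ∃ (r : ℕ) (b : Fin r → R), Ideal.span (Set.range b) = n ∧ ringKrullDim (R ⧸ n) + r = ringKrullDim R := by
  obtain ⟨r, b, hb, hw⟩ := CotT.exists_wreg_generators n hn
  refine ⟨r, b, hb, ?_⟩
  have hof : Ideal.ofList (List.ofFn b) = n := by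
    rw [← hb, Ideal.ofList]
    congr 1
    ext v
    simp [List.mem_ofFn]
  have hreg : RingTheory.Sequence.IsRegular R (List.ofFn b) := ⟨CotT.isWeaklyRegular_ofFn hw, by
    rw [hof, smul_eq_mul, Ideal.mul_top]
    exact hn.symm⟩
  have := ringKrullDim_add_length_eq_ringKrullDim_of_isRegular _ hreg
  rwa [List.length_ofFn, ringKrullDim_eq_of_ringEquiv (Ideal.quotientEquivAlgOfEq R hof).toRingEquiv] at this

end Groth.Agent.GLinFree
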