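import Groth.Agent.GLinFree.Coideal
import Mathlib.RingTheory.Spectrum.Prime.Chevalley
import Mathlib.RingTheory.Ideal.GoingUp

/-!
Closed orbits along finite equivariant maps.
-/
set_option autoImplicit false
set_option linter.unusedSectionVars false
universe u
open TensorProduct Coalgebra WithConv
noncomputable section

namespace Groth.Agent.GLinFree

open Groth.Agent.FlatSub

variable {k : Type u} [Field k] {A : Type u} [CommRing A] [HopfAlgebra k A]
variable {R : Type u} [CommRing R] [Algebra k R] [HopfRep.Comod k A R] [GLin.IsCoactAlg k A R]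

theorem counit_orbit (x : R →ₐ[k] k) (f : R) : counit (R := k) (GLin.orbitHom k A x f) = x f := by
  have h : ∀ t, counit (R := k) ((Algebra.TensorProduct.lid k A).toAlgHom
      (Algebra.TensorProduct.map x (AlgHom.id k A) t)) = x (TensorProduct.rid k R (counit.lTensor R t)) :=
    fun t => by
      induction t using TensorProduct.induction_on with
      | zero => simp
      | tmul a b => simp [mul_comm]
      | add a b ha hb => simp only [map_add, ha, hb]
  refine (h (GLin.coactAlgHom k A R f)).trans ?_
  rw [GLin.coactAlgHom_apply, show counit.lTensor R (HopfRep.Comod.coact (k := k) (A := A) f) = f ⊗ₜ (1 : k) from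
    LinearMap.congr_fun HopfRep.Comod.counit_comp f, TensorProduct.rid_tmul, one_smul]

theorem lift_rTensor (z : R →ₐ[k] k) (h : A →ₐ[k] k) (t : R ⊗[k] A) :
    Algebra.TensorProduct.lift z h (fun _ _ => Commute.all _ _) t =
      h ((Algebra.TensorProduct.lid k A).toAlgHom (Algebra.TensorProduct.map z (AlgHom.id k A) t)) := by
  induction t using TensorProduct.induction_on with
  | zero => simp
  | tmul a b => simp
  | add a b ha hb => simp only [map_add, ha, hb]

/-- composing translations -/
theorem apply_orbitHom_actPt (g h : WithConv (A →ₐ[k] k)) (z : R →ₐ[k] k) (f : R) :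
    h.ofConv (GLin.orbitHom k A (g.ofConv.comp (GLin.orbitHom k A z)) f) =
      (g * h).ofConv (GLin.orbitHom k A z f) := by
  rw [AlgHom.convMul_apply, OrbitCot.comul_orbitHom]
  show h.ofConv ((Algebra.TensorProduct.lid k A).toAlgHom (Algebra.TensorProduct.map _ (AlgHom.id k A)
    (GLin.coactAlgHom k A R f))) = _
  rw [← lift_rTensor]
  generalize GLin.coactAlgHom k A R f = t
  induction t using TensorProduct.induction_on with
  | zero => simp
  | tmul a b => simp
  | add a b ha hb => simp only [map_add, ha, hb]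

theorem exists_point_of_maximal [IsAlgClosed k] {B : Type u} [CommRing B] [Algebra k B] [Algebra.FiniteType k B]
    (M : Ideal B) [M.IsMaximal] : ∃ g : B →ₐ[k] k, RingHom.ker g = M := by
  let _ := Ideal.Quotient.field M
  have : Module.Finite k (B ⧸ M) := finite_of_finite_type_of_isJacobsonRing k (B ⧸ M)
  refine ⟨(AlgEquiv.ofBijective (Algebra.ofId k (B ⧸ M))
    (IsAlgClosed.algebraMap_bijective_of_isIntegral (k := k) (K := B ⧸ M))).symm.toAlgHom.comp
      (Ideal.Quotient.mkₐ k M), ?_⟩
  ext b
  simp [RingHom.mem_ker, Ideal.Quotient.eq_zero_iff_mem]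

theorem point_ext {B : Type u} [CommRing B] [Algebra k B] {p p' : B →ₐ[k] k}
    (h : RingHom.ker p ≤ RingHom.ker p') : p = p' := by
  ext b
  have : b - algebraMap k B (p b) ∈ RingHom.ker p := by simp [RingHom.mem_ker]
  have h2 := RingHom.mem_ker.1 (h this)
  rw [map_sub, AlgHom.commutes, sub_eq_zero] at h2
  exact h2.symm

theorem eq_zero_of_points [IsAlgClosed k] [Algebra.FiniteType k A] [IsReduced A] {a : A}
    (h : ∀ g : A →ₐ[k] k, g a = 0) : a = 0 := by
  have : IsJacobsonRing A := isJacobsonRing_of_finiteType (A := k)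
  have hj : a ∈ Ideal.jacobson (⊥ : Ideal A) := Submodule.mem_sInf.2 fun J hJ => by
    have := hJ.2
    obtain ⟨g, hg⟩ := exists_point_of_maximal (k := k) J
    rw [← hg]
    exact h g
  rw [IsJacobsonRing.out inferInstance (I := (⊥ : Ideal A))
    (fun y hy => by obtain ⟨m, hm⟩ := hy; exact IsNilpotent.eq_zero ⟨m, hm⟩)] at hj
  exact hj

section
variable [IsAlgClosed k] [CharZero k] [Algebra.FiniteType k A]
variable [Algebra.FiniteType k R]
variable {S : Type u} [CommRing S] [Algebra k S] [HopfRep.Comod k A S] [GLin.IsCoactAlg k A S]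
variable (ι : S →ₐ[k] R)
variable (hequiv : ∀ s : S, HopfRep.Comod.coact (k := k) (A := A) (ι s) =
  Algebra.TensorProduct.map ι (AlgHom.id k A) (HopfRep.Comod.coact (k := k) (A := A) s))

include hequiv in
theorem orbitHom_comp (x : R →ₐ[k] k) (s : S) :
    GLin.orbitHom k A x (ι s) = GLin.orbitHom k A (x.comp ι) s := by
  show (Algebra.TensorProduct.lid k A).toAlgHom (Algebra.TensorProduct.map x (AlgHom.id k A)
      (HopfRep.Comod.coact (k := k) (A := A) (ι s))) =
    (Algebra.TensorProduct.lid k A).toAlgHom (Algebra.TensorProduct.map (x.comp ι) (AlgHom.id k A)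
      (HopfRep.Comod.coact (k := k) (A := A) s))
  rw [hequiv]
  generalize HopfRep.Comod.coact (k := k) (A := A) s = t
  induction t using TensorProduct.induction_on with
  | zero => simp
  | tmul a b => simp
  | add a b ha hb => simp only [map_add, ha, hb]

variable (x : R →ₐ[k] k) (hι : ι.toRingHom.IsIntegral) (hy : GLin.IsClosedOrbit k A (x.comp ι))

include hequiv hι hy in
/-- A point over a closed orbit along an integral equivariant map has a closed orbit. -/
theorem isClosedOrbit_of_integral : GLin.IsClosedOrbit k A x := by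
  classical
  have : IsReduced A := HopfCartier.isReduced (k := k)
  have : Nontrivial A := Bialgebra.nontrivial k
  let φ := GLin.orbitHom k A x
  let ψ := GLin.orbitHom k A (x.comp ι)
  let C := φ.range
  let π := φ.rangeRestrict
  have hπ : Function.Surjective π := AlgHom.rangeRestrict_surjective _
  obtain ⟨δ, hδ⟩ := exists_delta (A := A) x
  have hδπ : ∀ r, δ (π r) = Algebra.TensorProduct.map π (AlgHom.id k A) (GLin.coactAlgHom k A R r) := fun r => by
    refine incl_injective ?_
    rw [hδ]
    refine (OrbitCot.comul_orbitHom x r).trans ?_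
    generalize GLin.coactAlgHom k A R r = t
    induction t using TensorProduct.induction_on with
    | zero => simp
    | tmul a b => simp; rfl
    | add a b ha hb => simp only [map_add, ha, hb]
  -- evaluation of a stable ideal
  have heval : ∀ (F : Ideal C), (∀ f ∈ F, δ f ∈ Ideal.span (lft C '' (F : Set C))) → ∀ (z : C →ₐ[k] k),
      F ≤ RingHom.ker z → ∀ r, π r ∈ F → GLin.orbitHom k A (z.comp π) r = 0 := by
    intro F hF z hz r hr
    let L := (Algebra.TensorProduct.lid k A).toAlgHom.comp (Algebra.TensorProduct.map z (AlgHom.id k A))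
    have h0 : L (δ (π r)) = 0 := by
      refine (Ideal.span_le (I := RingHom.ker L)).2 ?_ (hF _ hr)
      rintro _ ⟨c, hc, rfl⟩
      simp [L, RingHom.mem_ker.1 (hz hc)]
    rw [hδπ] at h0
    refine Eq.trans ?_ h0
    show (Algebra.TensorProduct.lid k A).toAlgHom (Algebra.TensorProduct.map (z.comp π) (AlgHom.id k A)
      (GLin.coactAlgHom k A R r)) = _
    generalize GLin.coactAlgHom k A R r = t
    induction t using TensorProduct.induction_on with
    | zero => simp
    | tmul a b => simp [L]
    | add a b ha hb => simp only [map_add, ha, hb]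
  have : Algebra.FiniteType k C := .of_surjective π hπ
  have : IsNoetherianRing C := Algebra.FiniteType.isNoetherianRing k C
  -- points over `D`
  have hD : ∀ z : C →ₐ[k] k, ∃ g : A →ₐ[k] k, (z.comp π).comp ι = g.comp ψ := by
    intro z
    let zD : S →ₐ[k] k := (z.comp π).comp ι
    have hmem : (⟨RingHom.ker zD, RingHom.ker_isPrime _⟩ : PrimeSpectrum S) ∈
        PrimeSpectrum.zeroLocus (RingHom.ker ψ.toRingHom) := fun s hs => by
      show z (π (ι s)) = 0
      rw [show π (ι s) = 0 from Subtype.ext ((orbitHom_comp ι hequiv x s).trans hs), map_zero]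
    rw [← PrimeSpectrum.closure_range_comap, hy.closure_eq] at hmem
    obtain ⟨q, hq⟩ := hmem
    obtain ⟨M, hM, hqM⟩ := Ideal.exists_le_maximal q.asIdeal q.2.ne_top
    obtain ⟨g, hg⟩ := exists_point_of_maximal (k := k) M
    refine ⟨g, point_ext fun s hs => ?_⟩
    have : ψ s ∈ q.asIdeal := (congrArg PrimeSpectrum.asIdeal hq).symm.le hs
    exact RingHom.mem_ker.2 (RingHom.mem_ker.1 (hg ▸ hqM this : ψ s ∈ RingHom.ker g))
  have hsimple : ∀ F : Ideal C, (∀ f ∈ F, δ f ∈ Ideal.span (lft C '' (F : Set C))) → F = ⊥ ∨ F = ⊤ := by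
    intro F hF
    refine or_iff_not_imp_right.2 fun hF1 => eq_bot_iff.2 fun f hf => ?_
    obtain ⟨n, hn, hFn⟩ := Ideal.exists_le_maximal F hF1
    obtain ⟨z, hz⟩ := exists_point_of_maximal (k := k) n
    obtain ⟨g, hg⟩ := hD z
    -- `F` meets the base orbit trivially
    have hFD : ∀ s, π (ι s) ∈ F → ψ s = 0 := by
      intro s hs
      refine eq_zero_of_points (k := k) fun h' => ?_
      have h0 := heval F hF z (hz ▸ hFn) (ι s) hs
      rw [orbitHom_comp ι hequiv, hg] at h0
      have e := apply_orbitHom_actPt (toConv g) ((toConv g)⁻¹ * toConv h') (x.comp ι) s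
      rw [← mul_assoc, mul_inv_cancel, one_mul] at e
      rw [show GLin.orbitHom k A ((toConv g).ofConv.comp (GLin.orbitHom k A (x.comp ι))) s = 0 from h0,
        map_zero] at e
      exact e.symm
    -- the base orbit as a ring
    let D := ψ.range
    have hDC : D ≤ C := by
      rintro _ ⟨s, rfl⟩
      exact ⟨ι s, orbitHom_comp ι hequiv x s⟩
    let _ : Algebra D C := (Subalgebra.inclusion hDC).toRingHom.toAlgebra
    have hint : ∀ c : C, IsIntegral D c := by
      intro c
      obtain ⟨r, rfl⟩ := hπ c
      obtain ⟨p, hp, hpr⟩ := hι r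
      refine ⟨p.map ψ.rangeRestrict.toRingHom, hp.map _, ?_⟩
      rw [Polynomial.eval₂_map]
      have he : (algebraMap D C).comp ψ.rangeRestrict.toRingHom = π.toRingHom.comp ι.toRingHom :=
        RingHom.ext fun s => Subtype.ext (orbitHom_comp ι hequiv x s).symm
      rw [he, ← show π.toRingHom (Polynomial.eval₂ ι.toRingHom r p) = Polynomial.eval₂
        (π.toRingHom.comp ι.toRingHom) (π r) p from Polynomial.hom_eval₂ _ _ _ _, hpr, map_zero]
    have : Algebra.IsIntegral D C := ⟨hint⟩
    obtain ⟨q, hq⟩ := Ideal.nonempty_minimalPrimes (I := (⊥ : Ideal D)) bot_ne_top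
    have hqp : q.IsPrime := hq.1.1
    obtain ⟨P', hFP', hP', hP'q⟩ := Ideal.exists_ideal_over_prime_of_isIntegral (S := C) q F (fun d hd => by
      obtain ⟨_, s, rfl⟩ := d
      have : π (ι s) ∈ F := by
        convert (Ideal.mem_comap.1 hd) using 1
        exact Subtype.ext (orbitHom_comp ι hequiv x s)
      exact (congrArg (· ∈ q) (Subtype.ext (hFD s this) : (⟨ψ s, s, rfl⟩ : ↥D) = 0)).mpr (zero_mem q))
    obtain ⟨P0, hP0, hP0P⟩ := Ideal.exists_minimalPrimes_le (I := (⊥ : Ideal C)) (J := P') bot_le
    have hP0p : P0.IsPrime := hP0.1.1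
    obtain ⟨Q, -, hQp, hQ⟩ := Ideal.exists_ideal_comap_le_prime P0 (⊥ : Ideal A)
      (f := (C.val : C →ₐ[k] A).toRingHom) (fun c hc => by
        rw [show c = 0 from Subtype.ext hc]
        exact zero_mem _)
    have hQ' : Q.comap (C.val : C →ₐ[k] A).toRingHom = P0 :=
      le_antisymm hQ (hP0.2 ⟨Ideal.comap_isPrime _ _, bot_le⟩ hQ)
    have hcomap : P0.comap (algebraMap D C) = P'.comap (algebraMap D C) := by
      refine le_antisymm (Ideal.comap_mono hP0P) ?_
      rw [hP'q]
      exact hq.2 ⟨Ideal.comap_isPrime _ _, bot_le⟩ ((Ideal.comap_mono hP0P).trans hP'q.le)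
    have hP'P0 : P' ≤ P0 := fun c hc => by
      by_contra hc0
      exact (Ideal.comap_lt_comap_of_integral_mem_sdiff hP0P ⟨hc, hc0⟩ (hint c)).ne hcomap
    obtain ⟨M, hM, hQM⟩ := Ideal.exists_le_maximal Q hQp.ne_top
    obtain ⟨g', hg'⟩ := exists_point_of_maximal (k := k) M
    have hFg : F ≤ RingHom.ker (g'.comp C.val) := fun c hc => by
      have : (c : A) ∈ M := hQM (hQ'.ge (hP'P0 (hFP' hc)))
      rw [← hg'] at this
      exact RingHom.mem_ker.2 (RingHom.mem_ker.1 this)
    obtain ⟨r, rfl⟩ := hπ f
    refine Subtype.ext (eq_zero_of_points (k := k) fun h' => ?_)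
    have h0 := heval F hF (g'.comp C.val) hFg r hf
    have e := apply_orbitHom_actPt (toConv g') ((toConv g')⁻¹ * toConv h') x r
    rw [← mul_assoc, mul_inv_cancel, one_mul,
      show GLin.orbitHom k A ((toConv g').ofConv.comp (GLin.orbitHom k A x)) r = 0 from h0, map_zero] at e
    exact e.symm
  have := flat_of_simple δ hδ hsimple
  have : Algebra.FiniteType C A := Algebra.FiniteType.of_restrictScalars_finiteType k C A
  have : Algebra.FinitePresentation C A := Algebra.FinitePresentation.of_finiteType.1 inferInstance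
  have hopen := (PrimeSpectrum.isOpenMap_comap_of_hasGoingDown_of_finitePresentation (R := C) (S := A)).isOpen_range
  set U := Set.range (PrimeSpectrum.comap (algebraMap C A)) with hU
  have hUne : U.Nonempty := by
    obtain ⟨p⟩ : Nonempty (PrimeSpectrum A) := inferInstance
    exact ⟨_, p, rfl⟩
  obtain ⟨p, hp⟩ := hUne
  obtain ⟨_, ⟨c, rfl⟩, hpc, hcU⟩ := PrimeSpectrum.isTopologicalBasis_basic_opens.exists_subset_of_mem_open hp hopen
  have hc0 : c ≠ 0 := fun h => hpc (h ▸ zero_mem _)
  obtain ⟨r, rfl⟩ := hπ c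
  -- every rational point of the orbit closure is in the orbit
  have hall : ∀ (n : Ideal C) (hn : n.IsMaximal), (⟨n, hn.isPrime⟩ : PrimeSpectrum C) ∈ U := by
    intro n hn
    obtain ⟨z, hz⟩ := exists_point_of_maximal (k := k) n
    let K := RingHom.ker (GLin.orbitHom k A (z.comp π))
    have hker : ∀ r', π r' = 0 → GLin.orbitHom k A (z.comp π) r' = 0 := fun r' h =>
      heval ⊥ (fun f hf => by rw [(Submodule.mem_bot _).1 hf, map_zero]; exact zero_mem _) z bot_le r'
        (h ▸ zero_mem _)
    have hF : ∀ f ∈ K.map π, δ f ∈ Ideal.span (lft C '' (K.map π : Set C)) := by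
      intro f hf
      obtain ⟨r', hr', rfl⟩ := (Ideal.mem_map_iff_of_surjective _ hπ).1 hf
      have hext : GLin.coactAlgHom k A R r' ∈ OrbitCot.ext k A K := by
        refine OrbitCot.mem_ext_of_ker k A K (GLin.orbitHom k A (z.comp π)).rangeRestrict.toLinearMap
          (AlgHom.rangeRestrict_surjective _) (Submodule.ext fun w => Subtype.ext_iff.trans Iff.rfl) _ ?_
        refine (incl_injective (B := (GLin.orbitHom k A (z.comp π)).range)) ?_
        rw [map_zero]
        have := OrbitCot.comul_orbitHom (A := A) (z.comp π) r'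
        rw [RingHom.mem_ker.1 hr', map_zero] at this
        refine Eq.trans ?_ this.symm
        generalize GLin.coactAlgHom k A R r' = t
        induction t using TensorProduct.induction_on with
        | zero => simp
        | tmul a b => simp
        | add a b ha hb => simp only [map_add, ha, hb]
      rw [hδπ]
      obtain ⟨t, ht⟩ := (OrbitCot.ext_eq_range k A K _).1 hext
      rw [← ht]
      clear ht
      induction t using TensorProduct.induction_on with
      | zero => simp
      | add a b ha hb => rw [map_add, map_add]; exact add_mem ha hb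
      | tmul w a =>
        rw [LinearMap.rTensor_tmul, Algebra.TensorProduct.map_tmul,
          show π ((K.restrictScalars k).subtype w) ⊗ₜ[k] (AlgHom.id k A) a =
            ((1 : C) ⊗ₜ[k] a) * lft C (π (w : R)) by simp [Algebra.TensorProduct.tmul_mul_tmul]]
        exact Ideal.mul_mem_left _ _ (Ideal.subset_span ⟨_, Ideal.mem_map_of_mem _ w.2, rfl⟩)
    have hKbot : K.map π = ⊥ := (hsimple _ hF).resolve_right fun h => by
      obtain ⟨r', hr', hr1⟩ := (Ideal.mem_map_iff_of_surjective _ hπ).1 (h ▸ Submodule.mem_top : (1 : C) ∈ K.map π)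
      have := counit_orbit (A := A) (z.comp π) r'
      rw [RingHom.mem_ker.1 hr', map_zero, AlgHom.comp_apply, hr1, map_one] at this
      exact zero_ne_one this
    have hne : GLin.orbitHom k A (z.comp π) r ≠ 0 := fun h =>
      hc0 ((Submodule.mem_bot _).1 (hKbot ▸ Ideal.mem_map_of_mem π (RingHom.mem_ker.2 h)))
    obtain ⟨g, hg⟩ : ∃ g : A →ₐ[k] k, g (GLin.orbitHom k A (z.comp π) r) ≠ 0 := by
      by_contra h
      push Not at h
      exact hne (eq_zero_of_points (k := k) h)
    let w : R →ₐ[k] k := g.comp (GLin.orbitHom k A (z.comp π))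
    let wC : C →+* k := RingHom.liftOfSurjective π.toRingHom hπ ⟨w.toRingHom, fun r' hr' => by
      show g (GLin.orbitHom k A (z.comp π) r') = 0
      rw [hker r' hr', map_zero]⟩
    have hwC : ∀ r', wC (π r') = w r' := fun r' => RingHom.liftOfRightInverse_comp_apply _ _ _ _ r'
    have : (⟨RingHom.ker wC, RingHom.ker_isPrime _⟩ : PrimeSpectrum C) ∈ U := hcU (by
      show π r ∉ RingHom.ker wC
      rw [RingHom.mem_ker, hwC]
      exact hg)
    obtain ⟨q, hq⟩ := this
    obtain ⟨M, hM, hqM⟩ := Ideal.exists_le_maximal q.asIdeal q.2.ne_top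
    obtain ⟨h', hh⟩ := exists_point_of_maximal (k := k) M
    have hw : w = h'.comp φ := point_ext fun r' hr' => by
      have h1 : π r' ∈ RingHom.ker wC := by rw [RingHom.mem_ker, hwC]; exact hr'
      have h2 : (π r' : A) ∈ M := hqM ((congrArg PrimeSpectrum.asIdeal hq).symm.le h1)
      rw [← hh] at h2
      exact RingHom.mem_ker.2 (RingHom.mem_ker.1 h2)
    let p := toConv h' * (toConv g)⁻¹
    have hp : ∀ r', z (π r') = p.ofConv (φ r') := fun r' => by
      have e1 := apply_orbitHom_actPt (toConv g) (toConv g)⁻¹ (z.comp π) r'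
      rw [mul_inv_cancel] at e1
      have e2 := apply_orbitHom_actPt (toConv h') (toConv g)⁻¹ x r'
      rw [show ((toConv h').ofConv.comp (GLin.orbitHom k A x)) = w from hw.symm] at e2
      rw [← e2]
      refine Eq.trans ?_ e1.symm
      refine (counit_orbit (A := A) (z.comp π) r').symm.trans ?_
      simp
    refine ⟨⟨RingHom.ker p.ofConv, RingHom.ker_isPrime _⟩, PrimeSpectrum.ext ?_⟩
    ext c'
    obtain ⟨r', rfl⟩ := hπ c'
    show p.ofConv (φ r') = 0 ↔ π r' ∈ n
    rw [← hp, ← hz]
    rfl
  have hsurj : U = Set.univ := by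
    by_contra hne
    obtain ⟨q, hq⟩ := (Set.ne_univ_iff_exists_notMem _).1 hne
    obtain ⟨n, hn, hqn⟩ := Ideal.exists_le_maximal q.asIdeal q.2.ne_top
    exact hq (((PrimeSpectrum.le_iff_specializes q ⟨n, hn.isPrime⟩).1 hqn).mem_open hopen (hall n hn))
  show IsClosed _
  have hrange : Set.range (PrimeSpectrum.comap φ.toRingHom) = PrimeSpectrum.zeroLocus (RingHom.ker φ.toRingHom) := by
    refine le_antisymm ?_ fun q hq => ?_
    · rintro _ ⟨q, rfl⟩ r' hr'
      show φ r' ∈ q.asIdeal
      rw [show φ r' = 0 from hr']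
      exact zero_mem _
    · have hpc : PrimeSpectrum.zeroLocus (RingHom.ker π.toRingHom) = Set.range (PrimeSpectrum.comap π.toRingHom) :=
        (_root_.range_comap_of_surjective _ π.toRingHom hπ).symm
      have : q ∈ Set.range (PrimeSpectrum.comap π.toRingHom) :=
        hpc ▸ fun r' hr' => hq (RingHom.mem_ker.2 (congrArg Subtype.val (RingHom.mem_ker.1 hr')))
      obtain ⟨q', rfl⟩ := this
      obtain ⟨q'', rfl⟩ : q' ∈ U := hsurj ▸ Set.mem_univ q'
      exact ⟨q'', rfl⟩
  rw [hrange]
  exact PrimeSpectrum.isClosed_zeroLocus _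

end

end Groth.Agent.GLinFree
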