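import Groth.Agent.GLinFree.Span
import Groth.Agent.GLinFree.Dim

/-!
Local structure of the quotient at a free closed orbit.
-/
set_option autoImplicit false
set_option linter.unusedSectionVars false
universe u
open TensorProduct
noncomputable section

namespace Groth.Agent.GLinFree

variable {k : Type u} [Field k] {A : Type u} [CommRing A] [HopfAlgebra k A]
variable {R : Type u} [CommRing R] [Algebra k R] [HopfRep.Comod k A R] [GLin.IsCoactAlg k A R]

/-- The invariant ring of a linearly reductive group acting on a noetherian ring is noetherian. -/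
theorem isNoetherianRing_invariants [IsNoetherianRing R] (r : Comod.Integral k A) :
    IsNoetherianRing ↥(GLin.invariants k A R) := by
  let B := GLin.invariants k A R
  have hcomap : ∀ J : Ideal B, (J.map (algebraMap B R)).comap (algebraMap B R) = J := fun J => by
    refine le_antisymm (fun y hy => ?_) Ideal.le_comap_map
    suffices ∀ z ∈ J.map (algebraMap B R), ∀ a : R,
        (⟨Comod.reynolds R r (a * z), Comod.reynolds_mem r _⟩ : B) ∈ J by
      have h := this _ hy 1
      rwa [show (⟨Comod.reynolds R r (1 * algebraMap B R y), Comod.reynolds_mem r _⟩ : B) = y from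
        Subtype.ext (by rw [one_mul]; exact Comod.reynolds_of_mem r y.2)] at h
    intro z hz
    induction hz using Submodule.span_induction with
    | mem z hz =>
      obtain ⟨j, hj, rfl⟩ := hz
      intro a
      rw [show (⟨Comod.reynolds R r (a * algebraMap B R j), Comod.reynolds_mem r _⟩ : B) =
        j * ⟨Comod.reynolds R r a, Comod.reynolds_mem r _⟩ from Subtype.ext (by
          rw [mul_comm a]; exact Comod.reynolds_mul r (j : R) a GLin.IsCoactAlg.coact_mul j.2)]
      exact Ideal.mul_mem_right _ _ hj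
    | zero =>
      intro a
      rw [show (⟨Comod.reynolds R r (a * 0), Comod.reynolds_mem r _⟩ : B) = 0 from Subtype.ext (by simp)]
      exact zero_mem _
    | add p q _ _ hp hq =>
      intro a
      rw [show (⟨Comod.reynolds R r (a * (p + q)), Comod.reynolds_mem r _⟩ : B) =
        ⟨Comod.reynolds R r (a * p), Comod.reynolds_mem r _⟩ + ⟨Comod.reynolds R r (a * q), Comod.reynolds_mem r _⟩
        from Subtype.ext (by simp [mul_add])]
      exact add_mem (hp a) (hq a)
    | smul c p _ hp =>
      intro a
      simp only [smul_eq_mul, ← mul_assoc]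
      exact hp (a * c)
  rw [isNoetherianRing_iff, isNoetherian_iff']
  exact StrictMono.wellFoundedGT (f := fun J : Ideal B => J.map (algebraMap B R)) fun J J' h =>
    lt_of_le_of_ne (Ideal.map_mono h.le) fun he => h.ne (by
      have h2 := congrArg (Ideal.comap (algebraMap B R)) he
      rwa [hcomap J, hcomap J'] at h2)

theorem orbitHom_invariant (x : R →ₐ[k] k) {f : R} (hf : f ∈ GLin.invariants k A R) :
    GLin.orbitHom k A x f = algebraMap k A (x f) := by
  show (Algebra.TensorProduct.lid k A).toAlgHom
    (Algebra.TensorProduct.map x (AlgHom.id k A) (HopfRep.Comod.coact (k := k) (A := A) f)) = _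
  rw [(GLin.mem_invariants_iff k A R f).1 hf]
  simp [Algebra.algebraMap_eq_smul_one]

theorem counit_orbitHom (x : R →ₐ[k] k) (f : R) :
    Coalgebra.counit (R := k) (GLin.orbitHom k A x f) = x f := by
  have h : ∀ t, Coalgebra.counit (R := k) ((Algebra.TensorProduct.lid k A).toAlgHom
      (Algebra.TensorProduct.map x (AlgHom.id k A) t)) = x (TensorProduct.rid k R (Coalgebra.counit.lTensor R t)) :=
    fun t => by
      induction t using TensorProduct.induction_on with
      | zero => simp
      | tmul a b => simp [mul_comm]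
      | add a b ha hb => simp only [map_add, ha, hb]
  refine (h (GLin.coactAlgHom k A R f)).trans ?_
  rw [GLin.coactAlgHom_apply, show Coalgebra.counit.lTensor R (HopfRep.Comod.coact (k := k) (A := A) f) =
    f ⊗ₜ (1 : k) from LinearMap.congr_fun HopfRep.Comod.counit_comp f, TensorProduct.rid_tmul, one_smul]

/-- The fibre through a point of the orbit has at most the dimension of the orbit. -/
theorem height_map_quotient_le {S T : Type u} [CommRing S] [CommRing T] (f : S →+* T)
    (hf : Function.Surjective f) (J P : Ideal S) [P.IsPrime] (hJP : J ≤ P) {b : S} (hb : b ∉ P)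
    (h : ∀ y ∈ RingHom.ker f, ∃ n : ℕ, b ^ n * y ∈ J) :
    ((P.map (Ideal.Quotient.mk J)).height : WithBot ℕ∞) ≤ ringKrullDim T := by
  have hP' : (P.map (Ideal.Quotient.mk J)).IsPrime :=
    Ideal.map_isPrime_of_surjective Ideal.Quotient.mk_surjective (by rwa [Ideal.mk_ker])
  let P'' : PrimeSpectrum (S ⧸ J) := ⟨P.map (Ideal.Quotient.mk J), hP'⟩
  rw [show ((P.map (Ideal.Quotient.mk J)).height) = Order.height P'' from
    PrimeSpectrum.height_eq_orderHeight P'', Order.height_eq_krullDim_Iic]
  have hle : ∀ q : Set.Iic P'', RingHom.ker f ≤ q.1.asIdeal.comap (Ideal.Quotient.mk J) := fun q y hy => by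
    obtain ⟨n, hn⟩ := h y hy
    have h1 : b ^ n * y ∈ q.1.asIdeal.comap (Ideal.Quotient.mk J) := by
      rw [Ideal.mem_comap, Ideal.Quotient.eq_zero_iff_mem.2 hn]
      exact zero_mem _
    refine (Ideal.IsPrime.mem_or_mem inferInstance h1).resolve_left fun hbq' => hb ?_
    have hbq := Ideal.IsPrime.mem_of_pow_mem inferInstance n hbq'
    have hq : q.1.asIdeal ≤ P.map (Ideal.Quotient.mk J) := q.2
    have := hq (Ideal.mem_comap.1 hbq)
    rwa [← Ideal.mem_comap, Ideal.comap_map_of_surjective' _ Ideal.Quotient.mk_surjective, Ideal.mk_ker,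
      sup_eq_left.2 hJP] at this
  refine Order.krullDim_le_of_strictMono
    (fun q : Set.Iic P'' => (⟨(q.1.asIdeal.comap (Ideal.Quotient.mk J)).map f,
      Ideal.map_isPrime_of_surjective hf (hle q)⟩ : PrimeSpectrum T)) fun q q' hqq => ?_
  have hle' : q.1.asIdeal ≤ q'.1.asIdeal := hqq.le
  refine lt_of_le_of_ne (Ideal.map_mono (Ideal.comap_mono hle')) fun he => hqq.ne ?_
  have h1 := congrArg (fun p : PrimeSpectrum T => p.asIdeal.comap f) he
  simp only [Ideal.comap_map_of_surjective' _ hf, sup_eq_left.2 (hle q), sup_eq_left.2 (hle q')] at h1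
  exact Subtype.ext (PrimeSpectrum.ext (Ideal.comap_injective_of_surjective _ Ideal.Quotient.mk_surjective h1))

/-- A basis of `I/I²` is no longer than a system of local generators of `I` at a point. -/
theorem card_basis_le {x : R →ₐ[k] k} (I : Ideal R) (hI : I ≤ RingHom.ker x) {r r' : ℕ}
    (f : Fin r → R) (hf : ∀ i, f i ∈ I)
    (hli : LinearIndependent (R ⧸ I) fun i => I.toCotangent ⟨f i, hf i⟩)
    (hsp : Submodule.span (R ⧸ I) (Set.range fun i => I.toCotangent ⟨f i, hf i⟩) = ⊤)
    (g : Fin r' → R) (hg : ∀ i, g i ∈ I) (hloc : ∀ j, ∃ s : R, x s ≠ 0 ∧ s * f j ∈ Ideal.span (Set.range g)) :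
    r ≤ r' := by
  classical
  let b := Module.Basis.mk hli hsp.ge
  let ev : R ⧸ I →+* k := Ideal.Quotient.lift I x.toRingHom fun a ha => hI ha
  let φ : I → (Fin r → k) := fun y j => ev (b.repr (I.toCotangent y) j)
  have hadd : ∀ y z, φ (y + z) = φ y + φ z := fun y z => funext fun j => by simp [φ]
  have hsmul : ∀ (a : R) (y : I), φ (a • y) = x a • φ y := fun a y => funext fun j => by
    show ev (b.repr (I.toCotangent (a • y)) j) = x a * ev (b.repr (I.toCotangent y) j)
    rw [map_smul, show a • I.toCotangent y = Ideal.Quotient.mk I a • I.toCotangent y from by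
      obtain ⟨z, hz⟩ := I.toCotangent_surjective (I.toCotangent y)
      rfl, map_smul, Finsupp.smul_apply, smul_eq_mul, map_mul]
    rfl
  let W := Submodule.span k (Set.range fun i => φ ⟨g i, hg i⟩)
  have hmem : ∀ (z : R) (hz : z ∈ I), z ∈ Ideal.span (Set.range g) → φ ⟨z, hz⟩ ∈ W := fun z hz hzs => by
    obtain ⟨a, ha⟩ := Ideal.mem_span_range_iff_exists_fun.1 hzs
    let Φ : I →+ (Fin r → k) := AddMonoidHom.mk' φ hadd
    have : (⟨z, hz⟩ : I) = ∑ i, a i • (⟨g i, hg i⟩ : I) := by
      refine Subtype.ext ?_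
      rw [AddSubmonoidClass.coe_finsetSum]
      exact ha.symm
    show Φ _ ∈ W
    rw [this, map_sum]
    refine Submodule.sum_mem _ fun i _ => ?_
    show φ (a i • (⟨g i, hg i⟩ : I)) ∈ W
    rw [hsmul]
    exact Submodule.smul_mem _ _ (Submodule.subset_span ⟨i, rfl⟩)
  have htop : W = ⊤ := by
    rw [eq_top_iff, ← (Pi.basisFun k (Fin r)).span_eq, Submodule.span_le]
    rintro _ ⟨j, rfl⟩
    obtain ⟨s, hs, hsf⟩ := hloc j
    have h1 := hmem (s * f j) (I.mul_mem_left _ (hf j)) hsf
    rw [show (⟨s * f j, I.mul_mem_left _ (hf j)⟩ : I) = s • (⟨f j, hf j⟩ : I) from rfl, hsmul] at h1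
    have h2 : φ ⟨f j, hf j⟩ = Pi.basisFun k (Fin r) j := funext fun i => by
      show ev (b.repr (I.toCotangent ⟨f j, hf j⟩) i) = _
      rw [show I.toCotangent ⟨f j, hf j⟩ = b j from (Module.Basis.mk_apply hli hsp.ge j).symm, b.repr_self]
      simp [Finsupp.single_apply, Pi.single_apply, eq_comm, apply_ite ev]
    rw [h2] at h1
    have := Submodule.smul_mem W (x s)⁻¹ h1
    rwa [smul_smul, inv_mul_cancel₀ hs, one_smul] at this
  have h := finrank_range_le_card (R := k) (fun i : Fin r' => φ ⟨g i, hg i⟩)
  rw [Set.finrank, show Submodule.span k (Set.range fun i => φ ⟨g i, hg i⟩) = ⊤ from htop, finrank_top] at h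
  simpa using h

end Groth.Agent.GLinFree
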