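import Groth.Agent.Comod.FlatSub
import Groth.Agent.HopfRedSq.Basic
import Groth.Agent.HopfCartier.Basic
import Groth.Agent.OrbitCot.Basic
import Mathlib.RingTheory.Flat.FaithfullyFlat.Algebra
import Mathlib.RingTheory.Spectrum.Prime.RingHom

/-!
A group is faithfully flat over a closed orbit; characters trivial on the stabiliser live on the orbit.
-/
set_option autoImplicit false
set_option linter.unusedSectionVars false
universe u
open TensorProduct Coalgebra
noncomputable section

namespace Groth.Agent.GLinFree

open Groth.Agent.FlatSub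

variable {k : Type u} [Field k] {A : Type u} [CommRing A] [HopfAlgebra k A] {C : Subalgebra k A}

/-- Relations split off when all ideals of minors are trivial. -/
theorem exists_proj_of_dichotomy {B : Type*} [CommRing B] {ι : Type} [Fintype ι] [DecidableEq ι]
    (K : Submodule B (ι → B)) (h : ∀ s, minors K s = ⊥ ∨ minors K s = ⊤) :
    ∃ π : (ι → B) →ₗ[B] (ι → B), (∀ y, π y ∈ K) ∧ ∀ x ∈ K, π x = x := by
  classical
  have hex : ∃ s, minors K (s + 1) = ⊥ := ⟨Fintype.card ι, minors_eq_bot_of_card_lt K (Nat.lt_succ_self _)⟩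
  have h0 := Nat.find_spec hex
  have h1 : minors K (Nat.find hex) = ⊤ := by
    rcases hf : Nat.find hex with _ | s
    · exact minors_zero K
    · exact (h (s + 1)).resolve_left (Nat.find_min hex (m := s) (by omega))
  exact exists_proj K h1 h0

section Flat
variable (δ : C →ₐ[k] C ⊗[k] A) (hδ : ∀ b, incl C (δ b) = comul (R := k) (b : A))
variable (hsimple : ∀ F : Ideal C, (∀ f ∈ F, δ f ∈ Ideal.span (lft C '' (F : Set C))) → F = ⊥ ∨ F = ⊤)

include hδ hsimple in
/-- A Hopf algebra is flat over a coideal subalgebra without nontrivial stable ideals. -/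
theorem flat_of_simple : Module.Flat C A := by
  classical
  have hne : Nontrivial C := ((Bialgebra.counitAlgHom k A).comp C.val).toRingHom.domain_nontrivial
  rw [Module.Flat.iff_forall_isTrivialRelation]
  intro l f x hfx
  obtain ⟨n, v, M, M', hM, hv, hmem⟩ := exists_system (k := k) (B := C) (Finset.univ.image x)
  choose c hc using fun i => hmem (x i) (Finset.mem_image_of_mem x (Finset.mem_univ i))
  let N : Submodule C A := ⊥
  have hN : ∀ y ∈ N, ∀ g : A →ₗ[k] k, TensorProduct.rid k A (g.lTensor A (comul (R := k) y)) ∈ N :=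
    fun y hy g => by rw [(Submodule.mem_bot C).mp hy]; simp
  have hdich : ∀ s, minors (N.comap (ev v)) s = ⊥ ∨ minors (N.comap (ev v)) s = ⊤ := fun s =>
    hsimple _ fun g hg => minors_stable hM hv hδ N hN hg
  obtain ⟨π, hπK, hπ⟩ := exists_proj_of_dichotomy _ hdich
  let d : Fin l → (Fin n × Fin n → C) := fun i => c i - π (c i)
  have hd : ∀ i, ev v (d i) = x i := fun i => by
    have := hπK (c i)
    rw [Submodule.mem_comap, Submodule.mem_bot] at this
    simp [d, map_sub, hc, this]
  have hrel : ∑ i, f i • d i = 0 := by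
    have hm : ∑ i, f i • c i ∈ N.comap (ev v) := by
      rw [Submodule.mem_comap, Submodule.mem_bot, map_sum]
      simpa [hc] using hfx
    have := hπ _ hm
    rw [map_sum] at this
    simp only [map_smul] at this
    simp only [d, smul_sub, Finset.sum_sub_distrib, this, sub_self]
  let e := Fintype.equivFin (Fin n × Fin n)
  refine ⟨Fintype.card (Fin n × Fin n), fun i j => d i (e.symm j), fun j => v (e.symm j), fun i => ?_, fun j => ?_⟩
  · rw [← hd i, Equiv.sum_comp e.symm (fun p => d i p • v p)]
    simp [ev, Fintype.linearCombination_apply]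
  · have := congr_fun hrel (e.symm j)
    simpa [Finset.sum_apply] using this

end Flat

section Orbit
variable [IsAlgClosed k] [CharZero k] [Algebra.FiniteType k A]
variable {R : Type u} [CommRing R] [Algebra k R] [HopfRep.Comod k A R] [GLin.IsCoactAlg k A R]
variable (x : R →ₐ[k] k) (hx : GLin.IsClosedOrbit k A x)

include hx in
theorem comap_val_surjective :
    Function.Surjective (PrimeSpectrum.comap (algebraMap (GLin.orbitHom k A x).range A)) := by
  intro p
  let π := (GLin.orbitHom k A x).rangeRestrict.toRingHom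
  have hπ : Function.Surjective π := AlgHom.rangeRestrict_surjective _
  have hmem : PrimeSpectrum.comap π p ∈ PrimeSpectrum.zeroLocus (RingHom.ker (GLin.orbitHom k A x).toRingHom) := by
    intro f hf
    show π f ∈ p.asIdeal
    rw [show π f = 0 from Subtype.ext hf]
    exact zero_mem _
  rw [← PrimeSpectrum.closure_range_comap, hx.closure_eq] at hmem
  obtain ⟨q, hq⟩ := hmem
  refine ⟨q, PrimeSpectrum.comap_injective_of_surjective π hπ ?_⟩
  rw [← hq]
  rfl

theorem exists_delta : ∃ δ : (GLin.orbitHom k A x).range →ₐ[k] (GLin.orbitHom k A x).range ⊗[k] A,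
    ∀ b : (GLin.orbitHom k A x).range, incl (GLin.orbitHom k A x).range (δ b) = comul (R := k) (b : A) := by
  let C := (GLin.orbitHom k A x).range
  have h : ∀ b : C, Bialgebra.comulAlgHom k A (b : A) ∈ (incl C).range := by
    rintro ⟨_, f, rfl⟩
    refine ⟨(GLin.orbitHom k A x).rangeRestrict.toLinearMap.rTensor A (GLin.coactAlgHom k A R f), ?_⟩
    refine Eq.trans ?_ (OrbitCot.comul_orbitHom x f).symm
    generalize GLin.coactAlgHom k A R f = t
    induction t using TensorProduct.induction_on with
    | zero => simp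
    | tmul a b => simp
    | add a b ha hb => simp only [map_add, ← ha, ← hb]
  refine ⟨(AlgEquiv.ofInjective _ (incl_injective (B := C))).symm.toAlgHom.comp
    (((Bialgebra.comulAlgHom k A).comp C.val).codRestrict _ h), fun b => ?_⟩
  exact congr_arg Subtype.val ((AlgEquiv.ofInjective _ (incl_injective (B := C))).apply_symm_apply ⟨_, h b⟩)

include hx in
/-- The group is faithfully flat over a closed orbit. -/
theorem faithfullyFlat_orbit : Module.FaithfullyFlat (GLin.orbitHom k A x).range A := by
  obtain ⟨δ, hδ⟩ := exists_delta (A := A) x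
  have hsurj := comap_val_surjective x hx
  have : IsJacobsonRing A := isJacobsonRing_of_finiteType (A := k)
  have : IsReduced A := HopfCartier.isReduced (k := k)
  have := flat_of_simple δ hδ fun F hF => by
    refine or_iff_not_imp_right.2 fun hF1 => eq_bot_iff.2 fun f hf => ?_
    obtain ⟨n, hn, hFn⟩ := Ideal.exists_le_maximal F hF1
    obtain ⟨q, hq⟩ := hsurj ⟨n, hn.isPrime⟩
    obtain ⟨M, hM, hqM⟩ := Ideal.exists_le_maximal q.asIdeal q.2.ne_top
    have hMn : F ≤ M.comap (algebraMap _ A) :=
      hFn.trans ((congrArg PrimeSpectrum.asIdeal hq).symm.le.trans (Ideal.comap_mono hqM))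
    obtain ⟨g, hg⟩ := HopfRedSq.exists_point (k := k) M
    suffices h0 : ∀ M' : Ideal A, M'.IsMaximal → (f : A) ∈ M' by
      have : (f : A) ∈ Ideal.jacobson (⊥ : Ideal A) := Submodule.mem_sInf.2 fun J hJ => h0 J hJ.2
      rw [IsJacobsonRing.out inferInstance (I := (⊥ : Ideal A))
        (fun y hy => by obtain ⟨m, hm⟩ := hy; exact IsNilpotent.eq_zero ⟨m, hm⟩)] at this
      exact (Submodule.mem_bot _).2 (Subtype.ext this)
    intro M' hM'
    obtain ⟨g', hg'⟩ := HopfRedSq.exists_point (k := k) M'
    rw [← hg', RingHom.mem_ker]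
    have hgg : g' = g * (g⁻¹ * g') := by rw [← mul_assoc, mul_inv_cancel, one_mul]
    let h := (g⁻¹ * g').ofConv
    let Φ : (GLin.orbitHom k A x).range ⊗[k] A →ₐ[k] k :=
      Algebra.TensorProduct.lift (g.ofConv.comp (GLin.orbitHom k A x).range.val) h (fun _ _ => Commute.all _ _)
    have hΦ : ∀ t, Φ t = Algebra.TensorProduct.lift g.ofConv h (fun _ _ => Commute.all _ _) (incl (GLin.orbitHom k A x).range t) := fun t => by
      induction t using TensorProduct.induction_on with
      | zero => simp
      | tmul a b => simp [Φ]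
      | add a b ha hb => simp only [map_add, ha, hb]
    have hz : Φ (δ f) = 0 := by
      refine (Ideal.span_le (I := RingHom.ker Φ)).2 ?_ (hF f hf)
      rintro _ ⟨c, hc, rfl⟩
      have : g.ofConv (c : A) = 0 := RingHom.mem_ker.1 (hg ▸ hMn hc : (c : A) ∈ RingHom.ker g.ofConv)
      simp [Φ, this]
    rw [hgg, AlgHom.convMul_apply]
    rw [hΦ, hδ] at hz
    refine Eq.trans ?_ hz
    generalize comul (R := k) (f : A) = t
    induction t using TensorProduct.induction_on with
    | zero => simp
    | tmul a b => simp [h]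
    | add a b ha hb => simp only [map_add, ha, hb]
  exact Module.FaithfullyFlat.of_comap_surjective hsurj

include hx in
/-- A character trivial on the stabiliser of a closed orbit is a function on the orbit. -/
theorem mem_range_of_sub_one_mem {χ : A} (hχ : IsGroupLikeElem k χ)
    (h : χ - 1 ∈ GLin.stabIdeal k A x) : χ ∈ (GLin.orbitHom k A x).range := by
  set φ := GLin.orbitHom k A x with hφ
  let C := φ.range
  have := faithfullyFlat_orbit x hx
  let i₁ : A →ₐ[k] A ⊗[C] A :=
    (Algebra.TensorProduct.includeLeft : A →ₐ[C] A ⊗[C] A).restrictScalars k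
  let i₂ : A →ₐ[k] A ⊗[C] A :=
    ((Algebra.TensorProduct.includeRight : A →ₐ[C] A ⊗[C] A).restrictScalars k).comp (HopfAlgebra.antipodeAlgHom k A)
  let L : A ⊗[k] A →ₐ[k] A ⊗[C] A := Algebra.TensorProduct.lift i₁ i₂ (fun _ _ => Commute.all _ _)
  let γ : A →ₐ[k] A ⊗[C] A := L.comp (Bialgebra.comulAlgHom k A)
  have hγ : ∀ c ∈ C, γ c = algebraMap k (A ⊗[C] A) (counit (R := k) c) := by
    rintro _ ⟨f, rfl⟩
    show L (comul (R := k) (GLin.orbitHom k A x f)) = _
    have e1 := OrbitCot.comul_orbitHom (A := A) x f
    have e2 : ((1 : A) ⊗ₜ[C] (1 : A)) = (1 : A ⊗[C] A) := rfl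
    have key : ∀ t : R ⊗[k] A, L (φ.toLinearMap.rTensor A t) =
        (1 : A) ⊗ₜ[C] (LinearMap.mul' k A ((HopfAlgebra.antipode k (A := A)).lTensor A (φ.toLinearMap.rTensor A t))) := by
      intro t
      induction t using TensorProduct.induction_on with
      | zero => simp
      | add a b ha hb => simp only [map_add, ha, hb, TensorProduct.tmul_add]
      | tmul r a =>
        have hsm := (TensorProduct.smul_tmul (R := C) (⟨φ r, r, rfl⟩ : C) (1 : A) (HopfAlgebra.antipode k a))
        simp only [Algebra.smul_def] at hsm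
        simp only [L, i₁, i₂, LinearMap.rTensor_tmul, LinearMap.lTensor_tmul, LinearMap.mul'_apply,
          Algebra.TensorProduct.lift_tmul, AlgHom.toLinearMap_apply]
        simpa [Algebra.TensorProduct.tmul_mul_tmul] using hsm
    rw [e1, key, ← e1, HopfAlgebra.mul_antipode_lTensor_comul_apply, Algebra.algebraMap_eq_smul_one,
      Algebra.algebraMap_eq_smul_one, TensorProduct.tmul_smul]
    rfl
  have hker : GLin.stabIdeal k A x ≤ RingHom.ker γ := by
    rw [GLin.stabIdeal, Ideal.map_le_iff_le_comap]
    intro f hf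
    show γ (φ f) = 0
    rw [hγ (φ f) ⟨f, rfl⟩]
    have hc : counit (R := k) (φ f) = x f := by
      have hh : ∀ t, counit (R := k) ((Algebra.TensorProduct.lid k A).toAlgHom
          (Algebra.TensorProduct.map x (AlgHom.id k A) t)) = x (TensorProduct.rid k R (counit.lTensor R t)) :=
        fun t => by
          induction t using TensorProduct.induction_on with
          | zero => simp
          | tmul a b => simp [mul_comm]
          | add a b ha hb => simp only [map_add, ha, hb]
      refine (hh (GLin.coactAlgHom k A R f)).trans ?_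
      rw [GLin.coactAlgHom_apply, show counit.lTensor R (HopfRep.Comod.coact (k := k) (A := A) f) = f ⊗ₜ (1 : k) from
        LinearMap.congr_fun HopfRep.Comod.counit_comp f, TensorProduct.rid_tmul, one_smul]
    rw [hc, RingHom.mem_ker.1 hf, map_zero]
  have h1 : γ χ = 1 := by
    have := RingHom.mem_ker.1 (hker h)
    rwa [map_sub, map_one, sub_eq_zero] at this
  have h2 : χ ⊗ₜ[C] (1 : A) = (1 : A) ⊗ₜ[C] χ := by
    have h3 : γ χ = χ ⊗ₜ[C] HopfAlgebra.antipode k χ := by
      show L (comul (R := k) χ) = _
      rw [hχ.comul_eq_tmul_self]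
      simp [L, i₁, i₂]
    have := congrArg (· * ((1 : A) ⊗ₜ[C] χ)) (h3.symm.trans h1)
    simpa [Algebra.TensorProduct.tmul_mul_tmul, hχ.antipode_mul_cancel] using this
  let q := (LinearMap.range (Algebra.linearMap C A)).mkQ
  have h4 : TensorProduct.mk C A (A ⧸ LinearMap.range (Algebra.linearMap C A)) 1 (q χ) = 0 := by
    have := congrArg (q.lTensor A) h2
    rw [LinearMap.lTensor_tmul, LinearMap.lTensor_tmul,
      show q 1 = 0 from (Submodule.Quotient.mk_eq_zero _).2 ⟨1, by simp⟩, TensorProduct.tmul_zero] at this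
    exact this.symm
  have h5 := (Submodule.Quotient.mk_eq_zero _).1
    ((map_eq_zero_iff _ (Module.FaithfullyFlat.tensorProduct_mk_injective (A := C) (B := A) _)).1 h4)
  obtain ⟨c, hc⟩ := h5
  exact hc ▸ c.2

end Orbit

end Groth.Agent.GLinFree
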