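import Groth.Agent.OrbitCot.Cot

/-!
Invariant vectors of a linearised module span near free orbits.
-/
set_option autoImplicit false
set_option linter.unusedSectionVars false
universe u
open TensorProduct Coalgebra
noncomputable section

namespace Groth.Agent.GLinFree

variable {k : Type u} [Field k] {A : Type u} [CommRing A] [HopfAlgebra k A]
variable {R : Type u} [CommRing R] [Algebra k R] [HopfRep.Comod k A R] [GLin.IsCoactAlg k A R]
variable (M : Type u) [AddCommGroup M] [Module k M] [Module R M] [IsScalarTower k R M]
variable [HopfRep.Comod k A M] [TameAct.IsHopfMod k A R M]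
variable (x : R →ₐ[k] k) (hx : Function.Surjective (GLin.orbitHom k A x))

/-- `M/IM` for the ideal `I` of the orbit -/
def Fib (_hx : Function.Surjective (GLin.orbitHom k A x)) : Type u :=
  M ⧸ (OrbitCot.orb k A x • ⊤ : Submodule R M)

instance : AddCommGroup (Fib M x hx) :=
  inferInstanceAs (AddCommGroup (M ⧸ (OrbitCot.orb k A x • ⊤ : Submodule R M)))

instance : Module k (Fib M x hx) :=
  inferInstanceAs (Module k (M ⧸ (OrbitCot.orb k A x • ⊤ : Submodule R M)))

instance instModA : Module A (Fib M x hx) :=
  Module.compHom (M ⧸ (OrbitCot.orb k A x • ⊤ : Submodule R M))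
    (OrbitCot.orbEquiv x hx : A →+* R ⧸ OrbitCot.orb k A x)

/-- the projection -/
def proj : M →ₗ[k] Fib M x hx := ((OrbitCot.orb k A x • ⊤ : Submodule R M).mkQ).restrictScalars k

theorem proj_surjective : Function.Surjective (proj M x hx) := fun q =>
  Submodule.mkQ_surjective (OrbitCot.orb k A x • ⊤ : Submodule R M) q

theorem proj_smul (f : R) (m : M) : proj M x hx (f • m) = GLin.orbitHom k A x f • proj M x hx m := by
  show _ = OrbitCot.orbEquiv x hx (GLin.orbitHom k A x f) • (Submodule.Quotient.mk m :
    M ⧸ (OrbitCot.orb k A x • ⊤ : Submodule R M))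
  rw [OrbitCot.orbEquiv_apply]
  rfl

instance : IsScalarTower k A (Fib M x hx) := ⟨fun c a q => by
  obtain ⟨m, rfl⟩ := proj_surjective M x hx q
  obtain ⟨f, rfl⟩ := hx a
  rw [show c • GLin.orbitHom k A x f = GLin.orbitHom k A x (c • f) from (map_smul _ _ _).symm, ← proj_smul,
    ← proj_smul, ← map_smul, smul_assoc]⟩

theorem coact_smul_mem (q : M) (hq : q ∈ (OrbitCot.orb k A x • ⊤ : Submodule R M)) :
    (proj M x hx).rTensor A (HopfRep.Comod.coact (k := k) (A := A) q) = 0 := by
  refine Submodule.smul_induction_on hq (fun y hy m _ => ?_) (fun a b ha hb => ?_)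
  swap
  · rw [map_add, map_add, ha, hb, add_zero]
  · rw [TameAct.IsHopfMod.coact_smul]
    obtain ⟨t, ht⟩ := (OrbitCot.ext_eq_range k A _ _).1 (OrbitCot.stable_ker x hx y hy)
    rw [show HopfRep.Comod.coact (k := k) (A := A) y = GLin.coactAlgHom k A R y from rfl, ← ht]
    generalize HopfRep.Comod.coact (k := k) (A := A) m = s
    clear ht
    induction t using TensorProduct.induction_on with
    | zero => simp
    | add a b ha hb => simp only [map_add, LinearMap.add_apply, ha, hb, add_zero]
    | tmul z a =>
      induction s using TensorProduct.induction_on with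
      | zero => simp
      | add c d hc hd => simp only [map_add, hc, hd, add_zero]
      | tmul m b =>
        rw [LinearMap.rTensor_tmul, TameAct.hmSMul_tmul, LinearMap.rTensor_tmul, proj_smul]
        simp [show GLin.orbitHom k A x (z : R) = 0 from z.2]

/-- the coaction of `M/IM` -/
def fibCoact : Fib M x hx →ₗ[k] Fib M x hx ⊗[k] A :=
  (LinearMap.ker (proj M x hx)).liftQ ((proj M x hx).rTensor A ∘ₗ HopfRep.Comod.coact)
      (fun q hq => coact_smul_mem M x hx q ((Submodule.Quotient.mk_eq_zero _).1 hq)) ∘ₗ
    ((proj M x hx).quotKerEquivOfSurjective (proj_surjective M x hx)).symm.toLinearMap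

theorem fibCoact_proj (m : M) :
    fibCoact M x hx (proj M x hx m) = (proj M x hx).rTensor A (HopfRep.Comod.coact (k := k) (A := A) m) := by
  rw [fibCoact, LinearMap.comp_apply, LinearEquiv.coe_coe,
    show ((proj M x hx).quotKerEquivOfSurjective (proj_surjective M x hx)).symm (proj M x hx m) =
      Submodule.Quotient.mk m from (LinearEquiv.symm_apply_eq _).2 rfl]
  rfl

instance instComod : HopfRep.Comod k A (Fib M x hx) where
  coact := fibCoact M x hx
  coassoc := by
    refine LinearMap.ext fun q => ?_
    obtain ⟨m, rfl⟩ := proj_surjective M x hx q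
    set p := proj M x hx
    have h1 : ∀ t : M ⊗[k] A, (fibCoact M x hx).rTensor A (p.rTensor A t) =
        (p.rTensor A).rTensor A ((HopfRep.Comod.coact (k := k) (A := A) (V := M)).rTensor A t) := fun t => by
      induction t using TensorProduct.induction_on with
      | zero => simp
      | tmul a b => simp [p, fibCoact_proj]
      | add a b ha hb => simp only [map_add, ha, hb]
    have h2 : ∀ s : (M ⊗[k] A) ⊗[k] A, TensorProduct.assoc k (Fib M x hx) A A ((p.rTensor A).rTensor A s) =
        p.rTensor (A ⊗[k] A) (TensorProduct.assoc k M A A s) := fun s => by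
      induction s using TensorProduct.induction_on with
      | zero => simp
      | add a b ha hb => simp only [map_add, ha, hb]
      | tmul t c =>
        induction t using TensorProduct.induction_on with
        | zero => simp
        | tmul a b => simp
        | add a b ha hb => simp only [map_add, TensorProduct.add_tmul, ha, hb]
    have h3 : ∀ t : M ⊗[k] A, p.rTensor (A ⊗[k] A) (comul.lTensor M t) =
        comul.lTensor (Fib M x hx) (p.rTensor A t) := fun t => by
      induction t using TensorProduct.induction_on with
      | zero => simp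
      | tmul a b => simp
      | add a b ha hb => simp only [map_add, ha, hb]
    simp only [LinearMap.comp_apply, LinearEquiv.coe_coe]
    rw [fibCoact_proj, h1, h2, show TensorProduct.assoc k M A A
      ((HopfRep.Comod.coact (k := k) (A := A) (V := M)).rTensor A (HopfRep.Comod.coact (k := k) (A := A) m)) =
      comul.lTensor M (HopfRep.Comod.coact (k := k) (A := A) m) from LinearMap.congr_fun HopfRep.Comod.coassoc m, h3]
  counit_comp := by
    refine LinearMap.ext fun q => ?_
    obtain ⟨m, rfl⟩ := proj_surjective M x hx q
    have h3 : ∀ t : M ⊗[k] A, counit.lTensor (Fib M x hx) ((proj M x hx).rTensor A t) =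
        (proj M x hx).rTensor k (counit.lTensor M t) := fun t => by
      induction t using TensorProduct.induction_on with
      | zero => simp
      | tmul a b => simp
      | add a b ha hb => simp only [map_add, ha, hb]
    simp only [LinearMap.comp_apply]
    rw [fibCoact_proj, h3, show counit.lTensor M (HopfRep.Comod.coact (k := k) (A := A) m) = m ⊗ₜ (1 : k) from
      LinearMap.congr_fun HopfRep.Comod.counit_comp m]
    rfl

theorem proj_isComodHom : Hoch.IsComodHom A (proj M x hx) :=
  LinearMap.ext fun m => fibCoact_proj M x hx m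

instance instHopfMod : TameAct.IsHopfMod k A A (Fib M x hx) where
  coact_smul a q := by
    obtain ⟨f, rfl⟩ := hx a
    obtain ⟨m, rfl⟩ := proj_surjective M x hx q
    show fibCoact M x hx _ = TameAct.hmSMul k A A _ (comul (GLin.orbitHom k A x f)) (fibCoact M x hx _)
    rw [← proj_smul, fibCoact_proj, fibCoact_proj, TameAct.IsHopfMod.coact_smul, OrbitCot.comul_orbitHom x f]
    rw [show HopfRep.Comod.coact (k := k) (A := A) f = GLin.coactAlgHom k A R f from rfl]
    generalize GLin.coactAlgHom k A R f = s
    generalize HopfRep.Comod.coact (k := k) (A := A) m = t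
    induction s using TensorProduct.induction_on with
    | zero => simp
    | add a b ha hb => simp only [map_add, LinearMap.add_apply, ha, hb]
    | tmul p q =>
      induction t using TensorProduct.induction_on with
      | zero => simp
      | add a b ha hb => simp only [map_add, ha, hb]
      | tmul z w => simp [proj_smul]

variable {M}

include hx in
/-- Modulo the ideal of a free orbit, a linearised module is spanned by invariants. -/
theorem top_le_span_fixedPts_sup (r : Comod.Integral k A) :
    (⊤ : Submodule R M) ≤
      Submodule.span R (HopfRep.fixedPts k A M : Set M) ⊔ OrbitCot.orb k A x • ⊤ := by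
  intro m _
  set P := HopfRep.fixedPts k A (Fib M x hx)
  obtain ⟨-, hspan⟩ := Comod.basis_of_fixedPts_basis (A := A) (fun i => ((Module.Basis.ofVectorSpace k P) i : Fib M x hx))
    ((Module.Basis.ofVectorSpace k P).linearIndependent.map' P.subtype P.ker_subtype) (by
      rw [show (fun i => ((Module.Basis.ofVectorSpace k P) i : Fib M x hx)) =
        P.subtype ∘ Module.Basis.ofVectorSpace k P from rfl, Set.range_comp, ← Submodule.map_span,
        (Module.Basis.ofVectorSpace k P).span_eq, Submodule.map_top, Submodule.range_subtype])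
  suffices ∀ q ∈ Submodule.span A (Set.range fun i => ((Module.Basis.ofVectorSpace k P) i : Fib M x hx)),
      ∀ n : M, proj M x hx n = q →
        n ∈ Submodule.span R (HopfRep.fixedPts k A M : Set M) ⊔ OrbitCot.orb k A x • ⊤ from
    this _ (hspan ▸ Submodule.mem_top) m rfl
  have hlift : ∀ n n' : M, proj M x hx n = proj M x hx n' →
      n' ∈ Submodule.span R (HopfRep.fixedPts k A M : Set M) ⊔ OrbitCot.orb k A x • ⊤ →
      n ∈ Submodule.span R (HopfRep.fixedPts k A M : Set M) ⊔ OrbitCot.orb k A x • ⊤ := fun n n' h h' => by
    rw [← sub_add_cancel n n']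
    exact add_mem (Submodule.mem_sup_right ((Submodule.Quotient.eq _).1 h)) h'
  intro q hq
  induction hq using Submodule.span_induction with
  | mem q hq =>
    obtain ⟨i, rfl⟩ := hq
    intro n hn
    refine hlift n (Comod.reynolds M r n) ?_ (Submodule.mem_sup_left (Submodule.subset_span (Comod.reynolds_mem r n)))
    rw [Comod.reynolds_natural r (proj_isComodHom M x hx), hn]
    exact (Comod.reynolds_of_mem r ((Module.Basis.ofVectorSpace k P) i).2).symm
  | zero => exact fun n hn => hlift n 0 (by rw [hn, map_zero]) (zero_mem _)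
  | add a b _ _ ha hb =>
    intro n hn
    obtain ⟨a', rfl⟩ := proj_surjective M x hx a
    obtain ⟨b', rfl⟩ := proj_surjective M x hx b
    exact hlift n (a' + b') (by rw [hn, map_add]) (add_mem (ha a' rfl) (hb b' rfl))
  | smul c a _ ha =>
    intro n hn
    obtain ⟨f, rfl⟩ := hx c
    obtain ⟨a', rfl⟩ := proj_surjective M x hx a
    exact hlift n (f • a') (by rw [hn, proj_smul]) (Submodule.smul_mem _ f (ha a' rfl))

theorem orbit_ker_le : OrbitCot.orb k A x ≤ RingHom.ker x := fun f hf => by
  have h : ∀ t, counit (R := k) ((Algebra.TensorProduct.lid k A).toAlgHom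
      (Algebra.TensorProduct.map x (AlgHom.id k A) t)) = x (TensorProduct.rid k R (counit.lTensor R t)) := fun t => by
    induction t using TensorProduct.induction_on with
    | zero => simp
    | tmul a b => simp [mul_comm]
    | add a b ha hb => simp only [map_add, ha, hb]
  have h' := h (GLin.coactAlgHom k A R f)
  rw [GLin.coactAlgHom_apply, show counit.lTensor R (HopfRep.Comod.coact (k := k) (A := A) f) = f ⊗ₜ (1 : k) from
    LinearMap.congr_fun HopfRep.Comod.counit_comp f, TensorProduct.rid_tmul, one_smul] at h'
  rw [RingHom.mem_ker, ← h']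
  show counit (R := k) (GLin.orbitHom k A x f) = 0
  rw [RingHom.mem_ker.1 hf, map_zero]

/-- Invariants span a linearised module when all orbits of rational points are free and closed. -/
theorem span_fixedPts_eq_top [IsAlgClosed k] [Algebra.FiniteType k R] [Module.Finite R M]
    (r : Comod.Integral k A) (hfree : ∀ x : R →ₐ[k] k, Function.Surjective (GLin.orbitHom k A x)) :
    Submodule.span R (HopfRep.fixedPts k A M : Set M) = ⊤ := by
  set N0 := Submodule.span R (HopfRep.fixedPts k A M : Set M)
  by_contra hne
  let J : Ideal R := N0.colon Set.univ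
  have hJ : J ≠ ⊤ := fun h => hne (eq_top_iff.2 fun m _ => by
    have := Submodule.mem_colon.1 (h ▸ Submodule.mem_top : (1 : R) ∈ J) m trivial
    rwa [one_smul] at this)
  obtain ⟨𝔪, hm, hJm⟩ := Ideal.exists_le_maximal J hJ
  let _ := Ideal.Quotient.field 𝔪
  have : Module.Finite k (R ⧸ 𝔪) := finite_of_finite_type_of_isJacobsonRing k (R ⧸ 𝔪)
  let e := (AlgEquiv.ofBijective (Algebra.ofId k (R ⧸ 𝔪))
    (IsAlgClosed.algebraMap_bijective_of_isIntegral (k := k) (K := R ⧸ 𝔪))).symm
  let x : R →ₐ[k] k := e.toAlgHom.comp (Ideal.Quotient.mkₐ k 𝔪)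
  have hx := hfree x
  have hker : RingHom.ker x ≤ 𝔪 := fun f hf => by
    rw [← Ideal.Quotient.eq_zero_iff_mem]
    exact e.injective (by simpa [x] using hf)
  have hfg : (⊤ : Submodule R M).FG := Module.Finite.fg_top
  obtain ⟨c, hc1, hc⟩ := Submodule.exists_sub_one_mem_and_smul_eq_zero_of_fg_of_le_smul
    (OrbitCot.orb k A x) (Submodule.map N0.mkQ ⊤) (hfg.map _) (by
      rintro _ ⟨m, -, rfl⟩
      obtain ⟨a, ha, b, hb, rfl⟩ := Submodule.mem_sup.1 (top_le_span_fixedPts_sup x hx r (Submodule.mem_top (x := m)))
      rw [map_add, show N0.mkQ a = 0 from (Submodule.Quotient.mk_eq_zero N0).2 ha, zero_add, ← Submodule.map_smul'']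
      exact Submodule.mem_map_of_mem hb)
  have hcJ : c ∈ J := Submodule.mem_colon.2 fun m _ => by
    have := hc _ (Submodule.mem_map_of_mem (f := N0.mkQ) (Submodule.mem_top (x := m)))
    rwa [← map_smul, Submodule.mkQ_apply, Submodule.Quotient.mk_eq_zero] at this
  refine hm.ne_top ((Ideal.eq_top_iff_one _).2 ?_)
  have := sub_mem (hJm hcJ) (hker (orbit_ker_le x hc1))
  rwa [sub_sub_cancel] at this

end Groth.Agent.GLinFree
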